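import Groth.Prelude.Def_Found
import Groth.Prelude.Def_EGA4b
import Groth.Agent.JacAdic16.FiniteFormal
import Groth.Agent.EGA4Lib.FiniteDomains
import Groth.Agent.RelDim.Prescribed
import Mathlib.RingTheory.AdjoinRoot

/-!
# G-rings from regular formal fibres of finite free algebras
-/

set_option autoImplicit false
set_option linter.style.haveILetI false
set_option maxHeartbeats 2000000
set_option synthInstance.maxHeartbeats 100000

universe u

open IsLocalRing TensorProduct

namespace Groth.Agent.FormalFree48

/-- A finite set of integral elements generates the image of a finite free algebra. -/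
theorem exists_finite_free {R K : Type u} [CommRing R] [CommRing K] [Algebra R K] [Nontrivial K]
    (s : Finset K) (hs : ∀ x ∈ s, IsIntegral R x) :
    ∃ (S : Type u) (_ : CommRing S) (_ : Algebra R S) (φ : S →ₐ[R] K),
      Module.Finite R S ∧ Module.Free R S ∧ φ.range = Algebra.adjoin R (s : Set K) := by
  classical
  induction s using Finset.induction with
  | empty =>
    refine ⟨R, inferInstance, inferInstance, Algebra.ofId R K, inferInstance, inferInstance, ?_⟩
    rw [Finset.coe_empty, Algebra.adjoin_empty]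
    refine le_antisymm ?_ bot_le
    rintro _ ⟨r, rfl⟩
    exact Subalgebra.algebraMap_mem _ r
  | insert x s hx ih =>
    obtain ⟨S, _, _, φ, hfin, hfree, hrange⟩ := ih fun y hy => hs y (Finset.mem_insert_of_mem hy)
    obtain ⟨f, hf, hfx⟩ := hs x (Finset.mem_insert_self x s)
    let g := f.map (algebraMap R S)
    have hg : g.Monic := hf.map _
    haveI : Module.Finite S (AdjoinRoot g) := Module.Finite.of_basis (AdjoinRoot.powerBasis' hg).basis
    haveI : Module.Free S (AdjoinRoot g) := Module.Free.of_basis (AdjoinRoot.powerBasis' hg).basis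
    haveI := hfin
    haveI := hfree
    have hroot : g.eval₂ φ.toRingHom x = 0 := by
      rw [Polynomial.eval₂_map, AlgHom.toRingHom_eq_coe, AlgHom.comp_algebraMap]; exact hfx
    let ψ : AdjoinRoot g →+* K := AdjoinRoot.lift φ.toRingHom x hroot
    have hψof : ∀ z, ψ (AdjoinRoot.of g z) = φ z := fun z => AdjoinRoot.lift_of hroot
    have hψroot : ψ (AdjoinRoot.root g) = x := AdjoinRoot.lift_root hroot
    have hcomm : ∀ r, ψ (algebraMap R (AdjoinRoot g) r) = algebraMap R K r := fun r => by
      rw [IsScalarTower.algebraMap_apply R S (AdjoinRoot g), AdjoinRoot.algebraMap_eq, hψof]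
      exact φ.commutes r
    let Ψ : AdjoinRoot g →ₐ[R] K := { ψ with commutes' := hcomm }
    refine ⟨AdjoinRoot g, inferInstance, inferInstance, Ψ, Module.Finite.trans S _,
      Module.Free.trans (R := R) (S := S), ?_⟩
    have hmono : Algebra.adjoin R (s : Set K) ≤ Algebra.adjoin R ((insert x s : Finset K) : Set K) :=
      Algebra.adjoin_mono (Finset.coe_subset.mpr (Finset.subset_insert _ _))
    have hxmem : x ∈ Algebra.adjoin R ((insert x s : Finset K) : Set K) :=
      Algebra.subset_adjoin (Finset.mem_insert_self x s)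
    refine le_antisymm ?_ (Algebra.adjoin_le fun y hy => ?_)
    · rintro _ ⟨z, rfl⟩
      obtain ⟨P, rfl⟩ := AdjoinRoot.mk_surjective z
      show ψ (AdjoinRoot.mk g P) ∈ _
      induction P using Polynomial.induction_on' with
      | add a b ha hb => rw [map_add, map_add]; exact add_mem ha hb
      | monomial n c =>
        rw [← Polynomial.C_mul_X_pow_eq_monomial, map_mul, map_pow, AdjoinRoot.mk_C, AdjoinRoot.mk_X,
          map_mul, map_pow, hψof, hψroot]
        exact mul_mem (hmono (hrange.le ⟨c, rfl⟩)) (pow_mem hxmem n)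
    · rcases Finset.mem_insert.mp (Finset.mem_coe.mp hy) with rfl | hy'
      · exact ⟨AdjoinRoot.root g, hψroot⟩
      · obtain ⟨z, rfl⟩ := hrange.ge (Algebra.subset_adjoin hy')
        exact ⟨AdjoinRoot.of g z, hψof z⟩

/-- Localization commutes with quotients. -/
theorem nonempty_quot_localization {T T' : Type u} [CommRing T] [CommRing T'] (π : T →+* T')
    (hπ : Function.Surjective π) (P : Ideal T) [P.IsPrime] (q : Ideal T') [q.IsPrime]
    (hP : P = q.comap π) :
    Nonempty (Localization.AtPrime P ⧸ (RingHom.ker π).map (algebraMap T (Localization.AtPrime P)) ≃+*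
      Localization.AtPrime q) := by
  let h := Localization.localRingHom P q π hP
  have hsurj : Function.Surjective h := by
    intro z
    obtain ⟨a, s, rfl⟩ := IsLocalization.exists_mk'_eq q.primeCompl z
    obtain ⟨a', rfl⟩ := hπ a
    obtain ⟨s', hs'⟩ := hπ s
    have hs'P : s' ∉ P := fun h' => s.2 (hs' ▸ (hP ▸ h' : s' ∈ q.comap π))
    refine ⟨IsLocalization.mk' _ a' (⟨s', hs'P⟩ : P.primeCompl), ?_⟩
    rw [Localization.localRingHom_mk']
    exact IsLocalization.mk'_eq_of_eq (by simp [hs'])
  have hker : RingHom.ker h = (RingHom.ker π).map (algebraMap T (Localization.AtPrime P)) := by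
    refine le_antisymm (fun z hz => ?_) (Ideal.map_le_iff_le_comap.mpr fun x hx => ?_)
    · obtain ⟨a, s, rfl⟩ := IsLocalization.exists_mk'_eq P.primeCompl z
      rw [RingHom.mem_ker, Localization.localRingHom_mk', IsLocalization.mk'_eq_zero_iff] at hz
      obtain ⟨⟨c, hc⟩, hca⟩ := hz
      obtain ⟨c', rfl⟩ := hπ c
      have hc'P : c' ∉ P := fun h' => hc (hP ▸ h' : c' ∈ q.comap π)
      have hmem : c' * a ∈ RingHom.ker π := by rw [RingHom.mem_ker, map_mul]; exact hca
      have : IsLocalization.mk' (Localization.AtPrime P) a s =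
          IsLocalization.mk' (Localization.AtPrime P) (c' * a) ((⟨c', hc'P⟩ : P.primeCompl) * s) := by
        rw [IsLocalization.mk'_eq_iff_eq]
        congr 1
        push_cast
        ring
      rw [this, IsLocalization.mk'_eq_mul_mk'_one]
      exact Ideal.mul_mem_right _ _ (Ideal.mem_map_of_mem _ hmem)
    · rw [Ideal.mem_comap, RingHom.mem_ker, Localization.localRingHom_to_map, RingHom.mem_ker.mp hx, map_zero]
  exact ⟨(Ideal.quotEquivOfEq hker.symm).trans (RingHom.quotientKerEquivOfSurjective hsurj)⟩

/-- Transport of a regular quotient of a local ring to another model of the localization. -/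
theorem isRegularLocalRing_quot_of_atPrime {D L : Type u} [CommRing D] [CommRing L] [Algebra D L]
    (P : Ideal D) [P.IsPrime] [IsLocalization.AtPrime L P] (I : Ideal D)
    (h : IsRegularLocalRing (Localization.AtPrime P ⧸ I.map (algebraMap D (Localization.AtPrime P)))) :
    IsRegularLocalRing (L ⧸ I.map (algebraMap D L)) := by
  let g := IsLocalization.algEquiv P.primeCompl (Localization.AtPrime P) L
  haveI := h
  exact IsRegularLocalRing.of_ringEquiv (Ideal.quotientEquiv (I.map (algebraMap D (Localization.AtPrime P)))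
    (I.map (algebraMap D L)) g.toRingEquiv (by
    rw [Ideal.map_map]
    congr 1
    exact RingHom.ext fun d => (g.commutes d).symm))

/-- In the completed base change, a prime over the closed point is determined by its trace on the algebra. -/
theorem eq_of_comap_eq {R S : Type u} [CommRing R] [IsNoetherianRing R] [CommRing S] [Algebra R S]
    (m : Ideal R) [m.IsPrime]
    (M M' : Ideal (AdicCompletion (maximalIdeal (Localization.AtPrime m)) (Localization.AtPrime m) ⊗[R] S))
    [M.IsPrime] [M'.IsPrime]
    (hM : ∀ c ∈ maximalIdeal (AdicCompletion (maximalIdeal (Localization.AtPrime m)) (Localization.AtPrime m)),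
      c ⊗ₜ[R] (1 : S) ∈ M)
    (hM' : ∀ c ∈ maximalIdeal (AdicCompletion (maximalIdeal (Localization.AtPrime m)) (Localization.AtPrime m)),
      c ⊗ₜ[R] (1 : S) ∈ M')
    (h : ∀ s : S, (1 : AdicCompletion (maximalIdeal (Localization.AtPrime m)) (Localization.AtPrime m)) ⊗ₜ[R] s ∈ M ↔
      (1 : AdicCompletion (maximalIdeal (Localization.AtPrime m)) (Localization.AtPrime m)) ⊗ₜ[R] s ∈ M') :
    M = M' := by
  haveI : IsNoetherianRing (Localization.AtPrime m) := IsLocalization.isNoetherianRing m.primeCompl _ inferInstance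
  set W := AdicCompletion (maximalIdeal (Localization.AtPrime m)) (Localization.AtPrime m)
  let J : Ideal (W ⊗[R] S) := (maximalIdeal W).map (algebraMap W (W ⊗[R] S))
  have hJM : J ≤ M := Ideal.map_le_iff_le_comap.mpr hM
  have hJM' : J ≤ M' := Ideal.map_le_iff_le_comap.mpr hM'
  have hu : ∀ u : m.primeCompl, IsUnit (algebraMap R W (u : R)) := fun u => by
    rw [IsScalarTower.algebraMap_apply R (Localization.AtPrime m) W]
    exact (IsLocalization.map_units (M := m.primeCompl) (Localization.AtPrime m) u).map _
  have happrox : ∀ t : W ⊗[R] S, ∃ (u : m.primeCompl) (s : S),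
      (u : R) • t - (1 : W) ⊗ₜ[R] s ∈ J := by
    intro t
    induction t with
    | zero => exact ⟨1, 0, by simp⟩
    | add x y hx hy =>
      obtain ⟨a, s, hs⟩ := hx
      obtain ⟨b, s', hs'⟩ := hy
      refine ⟨a * b, (b : R) • s + (a : R) • s', ?_⟩
      have := J.add_mem (Submodule.smul_of_tower_mem J (b : R) hs) (Submodule.smul_of_tower_mem J (a : R) hs')
      convert this using 1
      rw [Submonoid.coe_mul, TensorProduct.tmul_add, TensorProduct.tmul_smul, TensorProduct.tmul_smul]
      module
    | tmul c s =>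
      obtain ⟨r, hr⟩ := JacAdic16.FiniteFormal.exists_sub_mem_pow 1 c
      rw [pow_one, ← AdicCompletion.maximalIdeal_eq_map] at hr
      obtain ⟨a, u, rfl⟩ := IsLocalization.exists_mk'_eq m.primeCompl r
      refine ⟨u, a • s, ?_⟩
      have h1 : (u : R) • c - algebraMap R W a ∈ maximalIdeal W := by
        have := Submodule.smul_of_tower_mem (maximalIdeal W) (u : R) hr
        convert this using 1
        rw [smul_sub, Algebra.smul_def (u : R) (algebraMap _ W _),
          IsScalarTower.algebraMap_apply R (Localization.AtPrime m) W (u : R), ← map_mul,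
          IsLocalization.mk'_spec', ← IsScalarTower.algebraMap_apply]
      have h2 := J.mul_mem_right ((1 : W) ⊗ₜ[R] s) (Ideal.mem_map_of_mem (algebraMap W (W ⊗[R] S)) h1)
      convert h2 using 1
      show _ = (((u : R) • c - algebraMap R W a) ⊗ₜ[R] (1 : S)) * ((1 : W) ⊗ₜ[R] s)
      rw [Algebra.TensorProduct.tmul_mul_tmul, mul_one, one_mul, TensorProduct.sub_tmul,
        TensorProduct.smul_tmul', Algebra.algebraMap_eq_smul_one, TensorProduct.smul_tmul]
      congr 1
      exact (TensorProduct.smul_tmul a (1 : W) s).symm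
  ext t
  obtain ⟨u, s, hus⟩ := happrox t
  have hunit : ∀ (P : Ideal (W ⊗[R] S)), J ≤ P → (t ∈ P ↔ (1 : W) ⊗ₜ[R] s ∈ P) := by
    intro P hJP
    have hu' : IsUnit (algebraMap R (W ⊗[R] S) (u : R)) := by
      rw [IsScalarTower.algebraMap_apply R W (W ⊗[R] S)]
      exact (hu u).map _
    rw [← Ideal.unit_mul_mem_iff_mem P hu', ← Algebra.smul_def]
    constructor
    · intro h1
      have := P.sub_mem h1 (hJP hus)
      rwa [sub_sub_cancel] at this
    · intro h1
      have := P.add_mem (hJP hus) h1
      rwa [sub_add_cancel] at this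
  rw [hunit M hJM, hunit M' hJM', h]

/-- If all formal fibres of all local rings of finite free algebras are regular, the formal fibres are
geometrically regular. -/
theorem isRegularRing_tensor {R : Type u} [CommRing R] [IsNoetherianRing R]
    (H : ∀ (S : Type u) [CommRing S] [Algebra R S] [Module.Finite R S] [Module.Free R S]
      (n : Ideal S) [n.IsPrime] (p : Ideal (Localization.AtPrime n)) [p.IsPrime],
      IsRegularRing (EGA4.formalFibre (Localization.AtPrime n) p))
    (m : Ideal R) [m.IsPrime] (p : Ideal R) [p.IsPrime] (K : Type u) [Field K] [Algebra p.ResidueField K]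
    [Algebra R K] [IsScalarTower R p.ResidueField K] [Module.Finite p.ResidueField K]
    (hN : IsNoetherianRing (K ⊗[R] AdicCompletion (maximalIdeal (Localization.AtPrime m)) (Localization.AtPrime m))) :
    IsRegularRing (K ⊗[R] AdicCompletion (maximalIdeal (Localization.AtPrime m)) (Localization.AtPrime m)) := by
  classical
  haveI : IsNoetherianRing (Localization.AtPrime m) := IsLocalization.isNoetherianRing m.primeCompl _ inferInstance
  obtain ⟨B, hBfin, hfrac⟩ := EGA4Lib.exists_finite_domain p K
  haveI := hBfin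
  haveI := hfrac
  obtain ⟨G, hG⟩ := (B.fg_iff_finiteType.mpr inferInstance : B.FG)
  have hint : ∀ x ∈ G, IsIntegral R x := fun x hx =>
    (Algebra.IsIntegral.isIntegral (⟨x, hG ▸ Algebra.subset_adjoin hx⟩ : B)).map B.val
  obtain ⟨S, _, _, φ₀, hfin, hfree, hrange⟩ := exists_finite_free G hint
  haveI := hfin
  haveI := hfree
  rw [hG] at hrange
  let φ : S →ₐ[R] B := φ₀.codRestrict B fun z => hrange ▸ ⟨z, rfl⟩
  have hφ : Function.Surjective φ := fun b => by
    obtain ⟨z, hz⟩ := hrange.ge b.2
    exact ⟨z, Subtype.ext hz⟩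
  set W := AdicCompletion (maximalIdeal (Localization.AtPrime m)) (Localization.AtPrime m) with hW
  haveI := hN
  refine ⟨fun Q _ => ?_⟩
  obtain ⟨q, hq, hq0, ⟨e₀⟩⟩ :=
    (EGA4Lib.forall_prime_generic (A := R) (B := B) (K := K) (C := W)).1 Q
  haveI := hq
  refine @IsRegularLocalRing.of_ringEquiv _ _ ?_ _ _ e₀
  -- the surjection from the completed base change
  let π₀ : W ⊗[R] S →ₐ[R] W ⊗[R] B := Algebra.TensorProduct.map (AlgHom.id R W) φ
  let π : W ⊗[R] S →+* B ⊗[R] W := (Algebra.TensorProduct.comm R W B).toAlgHom.toRingHom.comp π₀.toRingHom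
  have hπ₀ : Function.Surjective π₀ := LinearMap.lTensor_surjective W (g := φ.toLinearMap) hφ
  have hπ : Function.Surjective π := (Algebra.TensorProduct.comm R W B).surjective.comp hπ₀
  have hπker : RingHom.ker π = (RingHom.ker φ.toRingHom).map
      (Algebra.TensorProduct.includeRight : S →ₐ[R] W ⊗[R] S).toRingHom := by
    have h1 : RingHom.ker π = RingHom.ker π₀.toRingHom :=
      RingHom.ker_comp_of_injective _ (Algebra.TensorProduct.comm R W B).injective
    rw [h1]
    exact Algebra.TensorProduct.lTensor_ker φ hφ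
  let P : Ideal (W ⊗[R] S) := q.comap π
  haveI : P.IsPrime := Ideal.IsPrime.comap _
  have hPB : ∀ z : S, (1 : W) ⊗ₜ[R] z ∈ P ↔ z ∈ RingHom.ker φ.toRingHom := fun z => by
    show φ z ⊗ₜ[R] (1 : W) ∈ q ↔ φ z = 0
    rw [← Ideal.mem_bot (x := φ z), ← hq0]
    rfl
  -- a maximal ideal above it
  obtain ⟨M₀, hM₀, hPM₀⟩ := Ideal.exists_le_maximal P Ideal.IsPrime.ne_top'
  haveI := hM₀.isPrime
  have hM₀c : ∀ c ∈ maximalIdeal W, c ⊗ₜ[R] (1 : S) ∈ M₀ := by
    have hmax : (M₀.comap (algebraMap W (W ⊗[R] S))).IsMaximal :=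
      Ideal.isMaximal_comap_of_isIntegral_of_isMaximal M₀
    exact fun c hc => (eq_maximalIdeal hmax).ge hc
  let n : Ideal S := M₀.comap (Algebra.TensorProduct.includeRight : S →ₐ[R] W ⊗[R] S).toRingHom
  haveI : n.IsPrime := Ideal.IsPrime.comap _
  have hnm : n.comap (algebraMap R S) = m := by
    ext r
    have e1 : (1 : W) ⊗ₜ[R] algebraMap R S r = algebraMap R W r ⊗ₜ[R] (1 : S) := by
      rw [Algebra.algebraMap_eq_smul_one, Algebra.algebraMap_eq_smul_one, TensorProduct.smul_tmul]
    show (1 : W) ⊗ₜ[R] algebraMap R S r ∈ M₀ ↔ r ∈ m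
    rw [e1]
    constructor
    · intro hr
      by_contra hrm
      have hu : IsUnit (algebraMap R W r) := by
        rw [IsScalarTower.algebraMap_apply R (Localization.AtPrime m) W]
        exact (IsLocalization.map_units (M := m.primeCompl) (Localization.AtPrime m) ⟨r, hrm⟩).map _
      exact hM₀.ne_top (Ideal.eq_top_of_isUnit_mem _ hr
        (hu.map (algebraMap W (W ⊗[R] S))))
    · intro hr
      refine hM₀c _ ?_
      rw [IsScalarTower.algebraMap_apply R (Localization.AtPrime m) W, AdicCompletion.maximalIdeal_eq_map]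
      refine Ideal.mem_map_of_mem _ ?_
      rw [← Localization.AtPrime.map_eq_maximalIdeal]
      exact Ideal.mem_map_of_mem _ hr
  obtain ⟨M, hMp, e, he⟩ := JacAdic16.FiniteFormal.exists_completion_model (A := R) (B := S) n m hnm
  haveI := hMp
  haveI : IsNoetherianRing S := IsNoetherianRing.of_finite R S
  haveI : IsNoetherianRing (Localization.AtPrime n) := IsLocalization.isNoetherianRing n.primeCompl _ inferInstance
  set D := AdicCompletion (maximalIdeal (Localization.AtPrime n)) (Localization.AtPrime n)
  let incl : S →+* W ⊗[R] S := (Algebra.TensorProduct.includeRight : S →ₐ[R] W ⊗[R] S).toRingHom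
  have hdm : ∀ z : S, incl z ∈ M ↔ z ∈ n := fun z => by
    rw [← IsLocalization.AtPrime.to_map_mem_maximal_iff (Localization.AtPrime M) M]
    show algebraMap _ (Localization.AtPrime M) ((1 : W) ⊗ₜ[R] z) ∈ _ ↔ _
    rw [← he z, mem_maximalIdeal, mem_nonunits_iff, MulEquiv.isUnit_map,
      isUnit_map_iff (algebraMap (Localization.AtPrime n) D),
      IsLocalization.AtPrime.isUnit_to_map_iff (Localization.AtPrime n) n]
    exact not_not
  have hMM : M = M₀ := by
    refine eq_of_comap_eq m M M₀ (fun c hc => ?_) hM₀c fun z => hdm z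
    have hle : maximalIdeal W ≤ M.comap (algebraMap W (W ⊗[R] S)) := by
      have hW' : maximalIdeal W = m.map (algebraMap R W) :=
        AdicCompletion.maximalIdeal_eq_map.trans
          ((congrArg (Ideal.map (algebraMap (Localization.AtPrime m) W))
            Localization.AtPrime.map_eq_maximalIdeal.symm).trans
            ((Ideal.map_map _ _).trans (by rw [← IsScalarTower.algebraMap_eq])))
      rw [hW', Ideal.map_le_iff_le_comap]
      intro r hr
      show algebraMap R W r ⊗ₜ[R] (1 : S) ∈ M
      rw [show algebraMap R W r ⊗ₜ[R] (1 : S) = (1 : W) ⊗ₜ[R] algebraMap R S r by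
        rw [Algebra.algebraMap_eq_smul_one, Algebra.algebraMap_eq_smul_one, TensorProduct.smul_tmul]]
      exact (hdm _).mpr (hnm.ge hr)
    exact hle hc
  subst hMM
  -- the prime in the completion
  have hPd : Disjoint (M.primeCompl : Set (W ⊗[R] S)) (P : Set (W ⊗[R] S)) :=
    Set.disjoint_left.mpr fun x hx hxP => hx (hPM₀ hxP)
  let P₁ : Ideal (Localization.AtPrime M) := P.map (algebraMap _ (Localization.AtPrime M))
  haveI : P₁.IsPrime := IsLocalization.isPrime_of_isPrime_disjoint _ _ P inferInstance hPd
  have hP₁ : P₁.comap (algebraMap _ (Localization.AtPrime M)) = P :=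
    IsLocalization.under_map_of_isPrime_disjoint _ _ inferInstance hPd
  let P₂ : Ideal D := P₁.comap e.toRingHom
  haveI : P₂.IsPrime := Ideal.IsPrime.comap _
  let 𝔔 : Ideal S := RingHom.ker φ.toRingHom
  haveI : 𝔔.IsPrime := RingHom.ker_isPrime _
  have h𝔔n : 𝔔 ≤ n := fun z hz => hPM₀ ((hPB z).mpr hz)
  have h𝔔d : Disjoint (n.primeCompl : Set S) (𝔔 : Set S) :=
    Set.disjoint_left.mpr fun x hx hx' => hx (h𝔔n hx')
  let p' : Ideal (Localization.AtPrime n) := 𝔔.map (algebraMap S _)
  haveI : p'.IsPrime := IsLocalization.isPrime_of_isPrime_disjoint _ _ 𝔔 inferInstance h𝔔d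
  have h𝔔c : Ideal.comap (algebraMap S (Localization.AtPrime n)) (𝔔.map (algebraMap S _)) = 𝔔 :=
    IsLocalization.under_map_of_isPrime_disjoint _ _ inferInstance h𝔔d
  have hover : P₂.LiesOver p' := ⟨by
    ext x
    obtain ⟨a, s, rfl⟩ := IsLocalization.exists_mk'_eq n.primeCompl x
    rw [IsLocalization.mk'_eq_mul_mk'_one]
    have hu : IsUnit (IsLocalization.mk' (Localization.AtPrime n) (1 : S) s) :=
      IsUnit.of_mul_eq_one (algebraMap S _ s) (IsLocalization.mk'_spec _ _ _ |>.trans (map_one _))
    rw [Ideal.mul_unit_mem_iff_mem _ hu, Ideal.under_def, Ideal.mem_comap, map_mul,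
      Ideal.mul_unit_mem_iff_mem _ (hu.map _)]
    show algebraMap S _ a ∈ 𝔔.map (algebraMap S _) ↔ e (algebraMap _ D (algebraMap S _ a)) ∈ P₁
    rw [he a, ← Ideal.mem_comap, h𝔔c]
    show a ∈ 𝔔 ↔ (1 : W) ⊗ₜ[R] a ∈ P₁.comap (algebraMap _ (Localization.AtPrime M))
    rw [hP₁, hPB]⟩
  haveI : IsRegularRing (p'.Fiber D) := H S n p'
  obtain ⟨Q', hQ'⟩ : ∃ Q' : PrimeSpectrum (p'.Fiber D),
      Q'.asIdeal.comap Algebra.TensorProduct.includeRight.toRingHom = P₂ :=
    ⟨_, congr($((PrimeSpectrum.preimageEquivFiber _ D ⟨p', inferInstance⟩).symm_apply_apply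
      ⟨⟨P₂, inferInstance⟩, PrimeSpectrum.ext (P₂.over_def p').symm⟩).1.asIdeal)⟩
  obtain ⟨eL⟩ := RelDim.exists_localizationEquiv p' P₂ Q'.asIdeal hQ'
  haveI h1 : IsRegularLocalRing (Localization.AtPrime P₂ ⧸
      (p'.map (algebraMap _ D)).map (algebraMap D (Localization.AtPrime P₂))) :=
    IsRegularLocalRing.of_ringEquiv (R := Localization.AtPrime Q'.asIdeal)
      (RingEquiv.ofBijective eL.toRingHom eL.bijective)
  -- the same local ring computed in the base change
  let χ : D →+* Localization.AtPrime P :=
    (IsLocalization.map (T := P.primeCompl) (Localization.AtPrime P) (RingHom.id _)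
      (show M.primeCompl ≤ P.primeCompl.comap (RingHom.id _) from fun x hx hxP => hx (hPM₀ hxP))).comp e.toRingHom
  letI : Algebra D (Localization.AtPrime P) := χ.toAlgebra
  haveI : IsLocalization.AtPrime (Localization.AtPrime P) P₂ := by
    have hle : M.primeCompl ≤ P.primeCompl := fun x hx hxP => hx (hPM₀ hxP)
    letI : Algebra (Localization.AtPrime M) (Localization.AtPrime P) :=
      (IsLocalization.map (T := P.primeCompl) (Localization.AtPrime P) (RingHom.id _)
        (show M.primeCompl ≤ P.primeCompl.comap (RingHom.id _) from hle)).toAlgebra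
    haveI : IsScalarTower (W ⊗[R] S) (Localization.AtPrime M) (Localization.AtPrime P) :=
      ⟨fun x y z => by
        rw [Algebra.smul_def x y, Algebra.smul_def x (y • z), Algebra.smul_def, Algebra.smul_def y z,
          map_mul, mul_assoc]
        congr 1
        exact (IsLocalization.map_eq _ x).trans rfl⟩
    haveI := IsLocalization.isLocalization_of_submonoid_le (Localization.AtPrime M) (Localization.AtPrime P) _ _ hle
    haveI hP₁loc : IsLocalization.AtPrime (Localization.AtPrime P) P₁ := by
      refine IsLocalization.of_le (P.primeCompl.map (algebraMap (W ⊗[R] S) (Localization.AtPrime M))) P₁.primeCompl ?_ ?_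
      · rintro _ ⟨y, hy, rfl⟩ h
        exact hy (show y ∈ P from hP₁.le h)
      · intro r hr
        obtain ⟨b, u, rfl⟩ := IsLocalization.exists_mk'_eq M.primeCompl r
        have hb : b ∈ P.primeCompl := fun h => hr (by
          rw [IsLocalization.mk'_eq_mul_mk'_one]
          exact Ideal.mul_mem_right _ _ (Ideal.mem_map_of_mem _ h))
        have := congrArg (algebraMap (Localization.AtPrime M) (Localization.AtPrime P))
          (IsLocalization.mk'_spec (Localization.AtPrime M) b u)
        rw [map_mul, ← IsScalarTower.algebraMap_apply, ← IsScalarTower.algebraMap_apply] at this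
        exact isUnit_of_mul_isUnit_left (this ▸ IsLocalization.map_units (M := P.primeCompl) _ ⟨b, hb⟩)
    have h := IsLocalization.isLocalization_of_base_ringEquiv P₁.primeCompl (Localization.AtPrime P) e.symm
    have hset : P₁.primeCompl.map e.symm = P₂.primeCompl := by
      ext d
      constructor
      · rintro ⟨y, hy, rfl⟩ h'
        exact hy (by simpa [P₂] using h')
      · intro hd
        exact ⟨e d, hd, e.symm_apply_apply d⟩
    rw [hset] at h
    exact h
  have h2 := isRegularLocalRing_quot_of_atPrime (L := Localization.AtPrime P) P₂ (p'.map (algebraMap _ D)) h1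
  have hI : (p'.map (algebraMap _ D)).map (algebraMap D (Localization.AtPrime P)) =
      (RingHom.ker π).map (algebraMap _ (Localization.AtPrime P)) := by
    rw [hπker, Ideal.map_map, Ideal.map_map, Ideal.map_map]
    congr 1
    ext z
    show χ (algebraMap _ D (algebraMap S _ z)) = algebraMap _ (Localization.AtPrime P) ((1 : W) ⊗ₜ[R] z)
    show (IsLocalization.map (T := P.primeCompl) (Localization.AtPrime P) (RingHom.id _)
      (show M.primeCompl ≤ P.primeCompl.comap (RingHom.id _) from fun x hx hxP => hx (hPM₀ hxP)))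
      (e (algebraMap _ D (algebraMap S _ z))) = _
    rw [he z, IsLocalization.map_eq]
    rfl
  rw [hI] at h2
  obtain ⟨eq⟩ := nonempty_quot_localization π hπ P q rfl
  haveI := h2
  exact IsRegularLocalRing.of_ringEquiv eq

end Groth.Agent.FormalFree48
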